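import Mathlib.Algebra.Homology.Monoidal
import Mathlib.Algebra.Category.ModuleCat.Monoidal.Closed
import Mathlib.Algebra.Category.ModuleCat.Colimits
import Mathlib.Algebra.Category.ModuleCat.EpiMono

/-!
# Elements of the tensor product of chain complexes of modules
-/

set_option autoImplicit false
set_option backward.isDefEq.respectTransparency false
set_option backward.isDefEq.respectTransparency.types false

universe v

open CategoryTheory MonoidalCategory HomologicalComplex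

namespace GrothLib.TotTensor25

noncomputable section

variable {R : Type v} [CommRing R] {C P Q : ChainComplex (ModuleCat.{v} R) ℕ}

/-- The inclusion of a summand. -/
abbrev inc (C P : ChainComplex (ModuleCat.{v} R) ℕ) (p q n : ℕ) (h : p + q = n) :
    C.X p ⊗ P.X q ⟶ (C ⊗ P).X n :=
  ιTensorObj C P p q n h

theorem hom_ext {n : ℕ} {Y : ModuleCat.{v} R} {f g : (C ⊗ P).X n ⟶ Y}
    (h : ∀ p q (e : p + q = n), inc C P p q n e ≫ f = inc C P p q n e ≫ g) : f = g :=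
  mapBifunctor.hom_ext (fun p q e => h p q e)

theorem inc_injective (p q n : ℕ) (h : p + q = n) : Function.Injective (inc C P p q n h) := by
  let r : (C ⊗ P).X n ⟶ C.X p ⊗ P.X q :=
    mapBifunctorDesc fun i₁ i₂ _ =>
      if e : i₁ = p ∧ i₂ = q then eqToHom (by obtain ⟨rfl, rfl⟩ := e; rfl) else 0
  have hr : inc C P p q n h ≫ r = 𝟙 _ := by
    refine (ι_mapBifunctorDesc _ p q h).trans ?_
    rw [dif_pos ⟨rfl, rfl⟩, eqToHom_refl]
    rfl
  intro x y e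
  have hx : ∀ z, r (inc C P p q n h z) = z := fun z => ConcreteCategory.congr_hom hr z
  rw [← hx x, e, hx y]

theorem mem_span (n : ℕ) (x : (C ⊗ P).X n) :
    x ∈ (⨆ (p : ℕ) (q : ℕ) (h : p + q = n), LinearMap.range (inc C P p q n h).hom) := by
  set S := ⨆ (p : ℕ) (q : ℕ) (h : p + q = n), LinearMap.range (inc C P p q n h).hom
  have e : ModuleCat.ofHom S.mkQ = (0 : (C ⊗ P).X n ⟶ _) := hom_ext fun p q h => by
    ext y
    exact (Submodule.Quotient.mk_eq_zero S).2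
      (le_iSup_of_le (f := fun p => ⨆ (q : ℕ) (h : p + q = n), LinearMap.range (inc C P p q n h).hom) p
        (le_iSup_of_le q (le_iSup_of_le h le_rfl)) ⟨y, rfl⟩)
  exact (Submodule.Quotient.mk_eq_zero S).1 (ConcreteCategory.congr_hom e x)

theorem exists_decomp_one (x : (C ⊗ P).X 1) :
    ∃ a b, x = inc C P 1 0 1 rfl a + inc C P 0 1 1 rfl b := by
  have hle : (⨆ (p : ℕ) (q : ℕ) (h : p + q = 1), LinearMap.range (inc C P p q 1 h).hom) ≤
      LinearMap.range (inc C P 1 0 1 rfl).hom ⊔ LinearMap.range (inc C P 0 1 1 rfl).hom := by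
    refine iSup_le fun p => iSup_le fun q => iSup_le fun h => ?_
    rcases (by omega : p = 0 ∧ q = 1 ∨ p = 1 ∧ q = 0) with ⟨rfl, rfl⟩ | ⟨rfl, rfl⟩
    · exact le_sup_right
    · exact le_sup_left
  obtain ⟨_, ⟨a, rfl⟩, _, ⟨b, rfl⟩, e⟩ := Submodule.mem_sup.1 (hle (mem_span 1 x))
  exact ⟨a, b, e.symm⟩

theorem exists_decomp_two (x : (C ⊗ P).X 2) :
    ∃ a b c, x = inc C P 2 0 2 rfl a + inc C P 1 1 2 rfl b + inc C P 0 2 2 rfl c := by
  have hle : (⨆ (p : ℕ) (q : ℕ) (h : p + q = 2), LinearMap.range (inc C P p q 2 h).hom) ≤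
      LinearMap.range (inc C P 2 0 2 rfl).hom ⊔ LinearMap.range (inc C P 1 1 2 rfl).hom ⊔
        LinearMap.range (inc C P 0 2 2 rfl).hom := by
    refine iSup_le fun p => iSup_le fun q => iSup_le fun h => ?_
    rcases (by omega : p = 0 ∧ q = 2 ∨ p = 1 ∧ q = 1 ∨ p = 2 ∧ q = 0) with
      ⟨rfl, rfl⟩ | ⟨rfl, rfl⟩ | ⟨rfl, rfl⟩
    · exact le_sup_right
    · exact le_sup_right.trans le_sup_left
    · exact le_sup_left.trans le_sup_left
  obtain ⟨_, hab, _, ⟨c, rfl⟩, e⟩ := Submodule.mem_sup.1 (hle (mem_span 2 x))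
  obtain ⟨_, ⟨a, rfl⟩, _, ⟨b, rfl⟩, e'⟩ := Submodule.mem_sup.1 hab
  exact ⟨a, b, c, by rw [← e, ← e']⟩

theorem inc_d (p q n m : ℕ) (h : p + q = n) :
    inc C P p q n h ≫ (C ⊗ P).d n m =
      mapBifunctor.d₁ C P (curriedTensor (ModuleCat.{v} R)) (ComplexShape.down ℕ) p q m +
        mapBifunctor.d₂ C P (curriedTensor (ModuleCat.{v} R)) (ComplexShape.down ℕ) p q m := by
  change inc C P p q n h ≫ (mapBifunctor C P (curriedTensor (ModuleCat.{v} R)) (ComplexShape.down ℕ)).d n m = _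
  rw [mapBifunctor.d_eq, Preadditive.comp_add, mapBifunctor.ι_D₁, mapBifunctor.ι_D₂]

theorem d_succ_zero (p : ℕ) (a : (C.X (p + 1) ⊗ P.X 0 : ModuleCat.{v} R)) :
    (C ⊗ P).d (p + 1) p (inc C P (p + 1) 0 (p + 1) rfl a) =
      inc C P p 0 p rfl ((C.d (p + 1) p ▷ P.X 0) a) := by
  refine ConcreteCategory.congr_hom (?_ : inc C P (p + 1) 0 (p + 1) rfl ≫ (C ⊗ P).d (p + 1) p =
    (C.d (p + 1) p ▷ P.X 0) ≫ inc C P p 0 p rfl) a
  refine (inc_d (p + 1) 0 (p + 1) p rfl).trans ?_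
  rw [mapBifunctor.d₁_eq _ _ _ _ (show (ComplexShape.down ℕ).Rel (p + 1) p from rfl) 0 p rfl,
    mapBifunctor.d₂_eq_zero _ _ _ _ _ _ _ (by simp), add_zero]
  exact one_smul _ _

theorem d_zero_succ (q : ℕ) (b : (C.X 0 ⊗ P.X (q + 1) : ModuleCat.{v} R)) :
    (C ⊗ P).d (q + 1) q (inc C P 0 (q + 1) (q + 1) (zero_add _) b) =
      inc C P 0 q q (zero_add _) ((C.X 0 ◁ P.d (q + 1) q) b) := by
  refine ConcreteCategory.congr_hom (?_ : inc C P 0 (q + 1) (q + 1) (zero_add _) ≫ (C ⊗ P).d (q + 1) q =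
    (C.X 0 ◁ P.d (q + 1) q) ≫ inc C P 0 q q (zero_add _)) b
  refine (inc_d 0 (q + 1) (q + 1) q (zero_add _)).trans ?_
  rw [mapBifunctor.d₂_eq _ _ _ _ 0 (show (ComplexShape.down ℕ).Rel (q + 1) q from rfl) q (zero_add q),
    mapBifunctor.d₁_eq_zero _ _ _ _ _ _ _ (by simp), zero_add]
  exact (congrArg (· • _) (ComplexShape.ε_zero (ComplexShape.down ℕ))).trans (one_smul _ _)

theorem d_one_one : ∃ u : ℤˣ, ∀ e : (C.X 1 ⊗ P.X 1 : ModuleCat.{v} R),
    (C ⊗ P).d 2 1 (inc C P 1 1 2 rfl e) =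
      inc C P 0 1 1 rfl ((C.d 1 0 ▷ P.X 1) e) + (u : ℤ) • inc C P 1 0 1 rfl ((C.X 1 ◁ P.d 1 0) e) := by
  refine ⟨ComplexShape.ε₂ (ComplexShape.down ℕ) (ComplexShape.down ℕ) (ComplexShape.down ℕ) ⟨1, 1⟩,
    fun e => ?_⟩
  refine ConcreteCategory.congr_hom (?_ : inc C P 1 1 2 rfl ≫ (C ⊗ P).d 2 1 =
    (C.d 1 0 ▷ P.X 1) ≫ inc C P 0 1 1 rfl +
      ((ComplexShape.ε₂ (ComplexShape.down ℕ) (ComplexShape.down ℕ) (ComplexShape.down ℕ) ⟨1, 1⟩ : ℤˣ) : ℤ) •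
        ((C.X 1 ◁ P.d 1 0) ≫ inc C P 1 0 1 rfl)) e
  refine (inc_d 1 1 2 1 rfl).trans ?_
  rw [mapBifunctor.d₁_eq _ _ _ _ (show (ComplexShape.down ℕ).Rel 1 0 from rfl) 1 1 rfl,
    mapBifunctor.d₂_eq _ _ _ _ 1 (show (ComplexShape.down ℕ).Rel 1 0 from rfl) 1 rfl]
  exact congrArg₂ (· + ·) (one_smul _ _) (Units.smul_def _ _)

theorem whiskerLeft_inc (π : P ⟶ Q) (p q n : ℕ) (h : p + q = n)
    (a : (C.X p ⊗ P.X q : ModuleCat.{v} R)) :
    (C ◁ π).f n (inc C P p q n h a) = inc C Q p q n h ((C.X p ◁ π.f q) a) := by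
  refine ConcreteCategory.congr_hom (?_ : inc C P p q n h ≫ (C ◁ π).f n =
    (C.X p ◁ π.f q) ≫ inc C Q p q n h) a
  refine (ι_mapBifunctorMap (𝟙 C) π (curriedTensor (ModuleCat.{v} R)) (ComplexShape.down ℕ) p q n h).trans ?_
  simp [inc, ιTensorObj]

end

end GrothLib.TotTensor25
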